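import Groth.Agent.Lib.DoublePt.Monomial
import Mathlib.RingTheory.Ideal.Quotient.Operations
import Mathlib.RingTheory.SimpleModule.Basic

/-! The ideal `(x², xy, y², xt, yt², t⁴)` of the higher double point `x² = yⁿ` times a line. -/

universe u

namespace Groth.Agent.DoublePt

open MvPowerSeries

/-- An exponent in three variables. -/
noncomputable def E3 (a b c : ℕ) : Fin 3 →₀ ℕ := Finsupp.equivFunOnFinite.symm ![a, b, c]

lemma E3_le_iff {a b c : ℕ} {e : Fin 3 →₀ ℕ} : E3 a b c ≤ e ↔ a ≤ e 0 ∧ b ≤ e 1 ∧ c ≤ e 2 := by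
  simp [E3, Finsupp.le_def, Fin.forall_fin_succ]

lemma E3_add (a b c a' b' c' : ℕ) : E3 a b c + E3 a' b' c' = E3 (a + a') (b + b') (c + c') := by
  ext i; fin_cases i <;> simp [E3]

variable (k : Type u) [Field k]

/-- A monomial. -/
noncomputable def mon (a b c : ℕ) : MvPowerSeries (Fin 3) k := monomial (E3 a b c) 1

lemma mon_mul (a b c a' b' c' : ℕ) :
    mon k a b c * mon k a' b' c' = mon k (a + a') (b + b') (c + c') := by
  rw [mon, mon, mon, monomial_mul_monomial, one_mul, E3_add]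

lemma mon_eq (a b c : ℕ) : mon k a b c = X 0 ^ a * X 1 ^ b * X 2 ^ c := by
  rw [X_pow_eq, X_pow_eq, X_pow_eq, monomial_mul_monomial, monomial_mul_monomial, mon]
  simp only [mul_one]
  congr 2
  ext i; fin_cases i <;> simp [E3]

lemma coeff_mon_mul (a b c : ℕ) (g : MvPowerSeries (Fin 3) k) (e : Fin 3 →₀ ℕ) :
    coeff (E3 a b c + e) (mon k a b c * g) = coeff e g := by
  rw [mon, coeff_add_monomial_mul, one_mul]

/-- The monomial ideal of a finite set of triples. -/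
noncomputable def mi (S : Finset (ℕ × ℕ × ℕ)) : Ideal (MvPowerSeries (Fin 3) k) :=
  monIdeal (S.image fun d => E3 d.1 d.2.1 d.2.2)

lemma mem_mi {S : Finset (ℕ × ℕ × ℕ)} {g : MvPowerSeries (Fin 3) k} :
    g ∈ mi k S ↔ ∀ e : Fin 3 →₀ ℕ,
      (∀ d ∈ S, ¬ (d.1 ≤ e 0 ∧ d.2.1 ≤ e 1 ∧ d.2.2 ≤ e 2)) → coeff e g = 0 := by
  rw [mi, mem_monIdeal]
  simp only [Finset.forall_mem_image, E3_le_iff]

lemma mi_eq_span (S : Finset (ℕ × ℕ × ℕ)) :
    mi k S = Ideal.span ((fun d : ℕ × ℕ × ℕ => mon k d.1 d.2.1 d.2.2) '' S) := by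
  rw [mi, monIdeal, Finset.coe_image, Set.image_image]
  rfl

lemma mon_mem {S : Finset (ℕ × ℕ × ℕ)} {a b c : ℕ} (d : ℕ × ℕ × ℕ) (hd : d ∈ S)
    (h : d.1 ≤ a ∧ d.2.1 ≤ b ∧ d.2.2 ≤ c) : mon k a b c ∈ mi k S := by
  rw [mi_eq_span]
  have : mon k a b c = mon k (a - d.1) (b - d.2.1) (c - d.2.2) * mon k d.1 d.2.1 d.2.2 := by
    rw [mon_mul]; congr 1 <;> omega
  rw [this]
  exact Ideal.mul_mem_left _ _ (Ideal.subset_span ⟨d, hd, rfl⟩)

variable (n : ℕ)

/-- The equation. -/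
noncomputable def eqn : MvPowerSeries (Fin 3) k := mon k 2 0 0 - mon k 0 n 0

/-- The ideal of the equation. -/
noncomputable def FI : Ideal (MvPowerSeries (Fin 3) k) := Ideal.span {eqn k n}

/-- `(y, t²)`. -/
noncomputable def AI : Ideal (MvPowerSeries (Fin 3) k) := mi k {(0, 1, 0), (0, 0, 2)}

/-- The length of the quotient by an ideal. -/
noncomputable abbrev len (I : Ideal (MvPowerSeries (Fin 3) k)) : ℕ∞ :=
  Module.length (MvPowerSeries (Fin 3) k) (MvPowerSeries (Fin 3) k ⧸ I)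

lemma mi_mul_mi_le {S T : Finset (ℕ × ℕ × ℕ)} {J : Ideal (MvPowerSeries (Fin 3) k)}
    (h : ∀ s ∈ S, ∀ t ∈ T, mon k (s.1 + t.1) (s.2.1 + t.2.1) (s.2.2 + t.2.2) ∈ J) :
    mi k S * mi k T ≤ J := by
  rw [mi_eq_span, mi_eq_span, Ideal.span_mul_span', Ideal.span_le]
  rintro _ ⟨_, ⟨s, hs, rfl⟩, _, ⟨t, ht, rfl⟩, rfl⟩
  show mon k s.1 s.2.1 s.2.2 * mon k t.1 t.2.1 t.2.2 ∈ J
  rw [mon_mul]
  exact h s hs t ht

lemma mi_le {S : Finset (ℕ × ℕ × ℕ)} {J : Ideal (MvPowerSeries (Fin 3) k)}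
    (h : ∀ s ∈ S, mon k s.1 s.2.1 s.2.2 ∈ J) : mi k S ≤ J := by
  rw [mi_eq_span, Ideal.span_le]
  rintro _ ⟨s, hs, rfl⟩
  exact h s hs

lemma len_maxl : len k (mi k {(1, 0, 0), (0, 1, 0), (0, 0, 1)}) = 1 := by
  rw [len, Module.length_eq_one_iff]
  have hmax : (mi k {(1, 0, 0), (0, 1, 0), (0, 0, 1)}).IsMaximal := by
    have h1 : mi k {(1, 0, 0), (0, 1, 0), (0, 0, 1)} =
        RingHom.ker (constantCoeff (σ := Fin 3) (R := k)) := by
      ext g
      rw [mem_mi, RingHom.mem_ker, ← coeff_zero_eq_constantCoeff_apply]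
      constructor
      · intro h; exact h 0 (by simp)
      · intro h e he
        simp only [Finset.mem_insert, Finset.mem_singleton, forall_eq_or_imp, forall_eq] at he
        have : e = 0 := by
          ext i; fin_cases i <;> simp at * <;> omega
        rw [this]; exact h
    rw [h1]
    exact RingHom.ker_isMaximal_of_surjective _ fun c => ⟨C c, constantCoeff_C c⟩
  rw [isSimpleModule_iff_isCoatom]
  exact hmax.out

lemma mi_sup_span (S : Finset (ℕ × ℕ × ℕ)) (a b c : ℕ) :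
    mi k S ⊔ Ideal.span {mon k a b c} = mi k (insert (a, b, c) S) := by
  rw [mi_eq_span, mi_eq_span, ← Ideal.span_union, Finset.coe_insert, Set.image_insert_eq,
    Set.union_singleton]

/-- Colon of monomial ideals, checked on exponents. -/
lemma len_split (S T : Finset (ℕ × ℕ × ℕ)) (a b c : ℕ)
    (h₁ : ∀ t ∈ T, ∃ d ∈ S, d.1 ≤ t.1 + a ∧ d.2.1 ≤ t.2.1 + b ∧ d.2.2 ≤ t.2.2 + c)
    (h₂ : ∀ x y z : ℕ, (∀ t ∈ T, ¬(t.1 ≤ x ∧ t.2.1 ≤ y ∧ t.2.2 ≤ z)) →
      ∀ d ∈ S, ¬(d.1 ≤ x + a ∧ d.2.1 ≤ y + b ∧ d.2.2 ≤ z + c)) :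
    len k (mi k S) = len k (mi k T) + len k (mi k (insert (a, b, c) S)) := by
  rw [← mi_sup_span]
  refine length_colon _ _ _ fun g => ⟨fun hg => ?_, fun hg => ?_⟩
  · have : Ideal.span {mon k a b c} * mi k T ≤ mi k S := by
      rw [mi_eq_span k T, Ideal.span_mul_span', Ideal.span_le]
      rintro _ ⟨_, rfl, _, ⟨t, ht, rfl⟩, rfl⟩
      show mon k a b c * mon k t.1 t.2.1 t.2.2 ∈ mi k S
      obtain ⟨d, hd, h⟩ := h₁ t ht
      rw [mon_mul]
      exact mon_mem k d hd ⟨by omega, by omega, by omega⟩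
    exact this (Ideal.mul_mem_mul (Ideal.mem_span_singleton_self _) hg)
  · rw [mem_mi] at hg ⊢
    intro e he
    rw [← coeff_mon_mul k a b c g e]
    refine hg _ fun d hd => ?_
    have := h₂ (e 0) (e 1) (e 2) he d hd
    simpa [E3, add_comm] using this

lemma len_eq_of_mem {S T : Finset (ℕ × ℕ × ℕ)}
    (h₁ : ∀ s ∈ S, ∃ d ∈ T, d.1 ≤ s.1 ∧ d.2.1 ≤ s.2.1 ∧ d.2.2 ≤ s.2.2)
    (h₂ : ∀ s ∈ T, ∃ d ∈ S, d.1 ≤ s.1 ∧ d.2.1 ≤ s.2.1 ∧ d.2.2 ≤ s.2.2) :
    mi k S = mi k T :=
  le_antisymm (mi_le k fun s hs => by obtain ⟨d, hd, h⟩ := h₁ s hs; exact mon_mem k d hd h)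
    (mi_le k fun s hs => by obtain ⟨d, hd, h⟩ := h₂ s hs; exact mon_mem k d hd h)

lemma mi_top : mi k {((0 : ℕ), (0 : ℕ), (0 : ℕ))} = ⊤ := by
  rw [Ideal.eq_top_iff_one, show (1 : MvPowerSeries (Fin 3) k) = mon k 0 0 0 by simp [mon_eq]]
  exact mon_mem k _ (Finset.mem_singleton_self _) ⟨le_rfl, le_rfl, le_rfl⟩

/-- `length k[[x,y,t]]/(x, y, t^M) = M`. -/
lemma len_line (M : ℕ) : len k (mi k {(1, 0, 0), (0, 1, 0), (0, 0, M)}) = M := by
  induction M with
  | zero =>
    rw [len_eq_of_mem k (T := {(0, 0, 0)}) (by simp) (by simp), mi_top, len]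
    simpa using length_quotient_top
  | succ M ih =>
    rw [len_split k _ {(1, 0, 0), (0, 1, 0), (0, 0, M)} 0 0 1 (by simp) ?_,
      len_eq_of_mem k (S := insert (0, 0, 1) {(1, 0, 0), (0, 1, 0), (0, 0, M + 1)})
        (T := {(1, 0, 0), (0, 1, 0), (0, 0, 1)}) (by simp) (by simp), ih, len_maxl, Nat.cast_add,
      Nat.cast_one]
    intro x y z h
    simp only [Finset.mem_insert, Finset.mem_singleton, forall_eq_or_imp, forall_eq] at h ⊢
    omega

/-- `length k[[x,y,t]]/(x², y, t^M) = 2 M`. -/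
lemma len_double (M : ℕ) :
    len k (mi k {(2, 0, 0), (0, 1, 0), (0, 0, M)}) = (2 * M : ℕ) := by
  rw [len_split k _ {(1, 0, 0), (0, 1, 0), (0, 0, M)} 1 0 0 (by simp) ?_,
    len_eq_of_mem k (S := insert (1, 0, 0) {(2, 0, 0), (0, 1, 0), (0, 0, M)})
      (T := {(1, 0, 0), (0, 1, 0), (0, 0, M)}) (by simp) (by simp), len_line, ← Nat.cast_add,
    two_mul]
  intro x y z h
  simp only [Finset.mem_insert, Finset.mem_singleton, forall_eq_or_imp, forall_eq] at h ⊢
  omega

lemma len_seven : len k (mi k {(2, 0, 0), (1, 1, 0), (0, 2, 0), (1, 0, 1), (0, 1, 2), (0, 0, 4)})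
    = 7 := by
  rw [len_split k _ {(1, 0, 0), (0, 1, 0), (0, 0, 1)} 1 0 0 (by simp) ?_,
    len_eq_of_mem k
      (S := insert (1, 0, 0) {(2, 0, 0), (1, 1, 0), (0, 2, 0), (1, 0, 1), (0, 1, 2), (0, 0, 4)})
      (T := {(1, 0, 0), (0, 2, 0), (0, 1, 2), (0, 0, 4)}) (by simp) (by simp),
    len_split k {(1, 0, 0), (0, 2, 0), (0, 1, 2), (0, 0, 4)} {(1, 0, 0), (0, 1, 0), (0, 0, 2)}
      0 1 0 (by simp) ?_,
    len_eq_of_mem k (S := insert (0, 1, 0) {(1, 0, 0), (0, 2, 0), (0, 1, 2), (0, 0, 4)})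
      (T := {(1, 0, 0), (0, 1, 0), (0, 0, 4)}) (by simp) (by simp),
    len_maxl, len_line, len_line]
  · rfl
  all_goals
    intro x y z h
    simp only [Finset.mem_insert, Finset.mem_singleton, forall_eq_or_imp, forall_eq] at h ⊢
    omega

lemma eqn_mem {S : Finset (ℕ × ℕ × ℕ)} (h : mon k 2 0 0 ∈ mi k S) (h' : mon k 0 n 0 ∈ mi k S) :
    FI k n ≤ mi k S := (Ideal.span_singleton_le_iff_mem _).2 (sub_mem h h')

lemma AI_pow_succ_le (N : ℕ) : AI k ^ (N + 1) ≤
    Ideal.span {mon k 0 1 0} * AI k ^ N ⊔ Ideal.span {mon k 0 0 (2 * (N + 1))} := by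
  have hA : AI k = Ideal.span {mon k 0 1 0} ⊔ Ideal.span {mon k 0 0 2} := by
    rw [AI, mi_eq_span, ← Ideal.span_union, Set.singleton_union]
    simp [Set.image_insert_eq]
  induction N with
  | zero => rw [pow_one, pow_zero, Ideal.one_eq_top, Ideal.mul_top]; exact hA.le
  | succ N ih =>
    rw [pow_succ' (AI k) (N + 1)]
    nth_rewrite 1 [hA]
    rw [Ideal.sup_mul]
    refine sup_le le_sup_left ((Ideal.mul_mono_right ih).trans ?_)
    rw [Ideal.mul_sup]
    refine sup_le (le_sup_of_le_left ?_) (le_sup_of_le_right ?_)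
    · rw [← mul_assoc, mul_comm (Ideal.span {mon k 0 0 2}), mul_assoc, pow_succ']
      refine Ideal.mul_mono_right (Ideal.mul_mono_left ?_)
      rw [hA]; exact le_sup_right
    · rw [Ideal.span_singleton_mul_span_singleton, mon_mul]
      exact le_of_eq (by congr 3; omega)

variable {n}

lemma len_AI_pow_succ (hn : 1 ≤ n) (N : ℕ) : len k (FI k n ⊔ AI k ^ (N + 1)) =
    len k (FI k n ⊔ AI k ^ N) + (2 * (2 * (N + 1)) : ℕ) := by
  set y := mon k 0 1 0
  set f := eqn k n with hf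
  rw [← len_double k (2 * (N + 1)), len, length_colon (FI k n ⊔ AI k ^ (N + 1))
    (FI k n ⊔ AI k ^ N) y]
  · congr 1
    refine congrArg (len k) ?_
    have hfy : f = mon k 2 0 0 - mon k 0 (n - 1) 0 * y := by
      rw [hf, eqn, mon_mul]; congr 2; omega
    refine le_antisymm (sup_le (sup_le ?_ ?_) ?_) (mi_le k fun s hs => ?_)
    · exact eqn_mem k n (mon_mem k (2, 0, 0) (by simp) ⟨le_rfl, le_rfl, le_rfl⟩)
        (mon_mem k (0, 1, 0) (by simp) ⟨le_rfl, hn, le_rfl⟩)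
    · refine (AI_pow_succ_le k N).trans (sup_le (Ideal.mul_le_left.trans ?_) ?_)
      · exact (Ideal.span_singleton_le_iff_mem _).2
          (mon_mem k (0, 1, 0) (by simp) ⟨le_rfl, le_rfl, le_rfl⟩)
      · exact (Ideal.span_singleton_le_iff_mem _).2
          (mon_mem k (0, 0, 2 * (N + 1)) (by simp) ⟨le_rfl, le_rfl, le_rfl⟩)
    · exact (Ideal.span_singleton_le_iff_mem _).2
        (mon_mem k (0, 1, 0) (by simp) ⟨le_rfl, le_rfl, le_rfl⟩)
    · simp only [Finset.mem_insert, Finset.mem_singleton] at hs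
      rcases hs with rfl | rfl | rfl
      · rw [show mon k 2 0 0 = f + mon k 0 (n - 1) 0 * y by rw [hfy]; ring]
        exact add_mem (Submodule.mem_sup_left (Submodule.mem_sup_left
          (Ideal.mem_span_singleton_self _))) (Ideal.mul_mem_left _ _
          (Submodule.mem_sup_right (Ideal.mem_span_singleton_self _)))
      · exact Submodule.mem_sup_right (Ideal.mem_span_singleton_self _)
      · refine Submodule.mem_sup_left (Submodule.mem_sup_right ?_)
        have h2 : mon k 0 0 2 ∈ AI k := mon_mem k (0, 0, 2) (by simp) ⟨le_rfl, le_rfl, le_rfl⟩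
        have hp : ∀ j, mon k 0 0 2 ^ j = mon k 0 0 (2 * j) := fun j => by
          simp [mon_eq, ← pow_mul]
        have := Ideal.pow_mem_pow h2 (N + 1)
        rwa [hp] at this
  · intro g
    constructor
    · intro hg
      obtain ⟨a, ha, b, hb, rfl⟩ := Submodule.mem_sup.1 hg
      rw [mul_add]
      refine add_mem (Submodule.mem_sup_left (Ideal.mul_mem_left _ _ ha))
        (Submodule.mem_sup_right ?_)
      rw [pow_succ']
      exact Ideal.mul_mem_mul (mon_mem k (0, 1, 0) (by simp) ⟨le_rfl, le_rfl, le_rfl⟩) hb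
    · intro hg
      obtain ⟨a, ha, b, hb, hab⟩ := Submodule.mem_sup.1 hg
      obtain ⟨p, rfl⟩ := Ideal.mem_span_singleton'.1 ha
      obtain ⟨b₁, hb₁, b₂, hb₂, rfl⟩ := Submodule.mem_sup.1 (AI_pow_succ_le k N hb)
      obtain ⟨h', hh, rfl⟩ := Ideal.mem_span_singleton_mul.1 hb₁
      obtain ⟨c, rfl⟩ := Ideal.mem_span_singleton'.1 hb₂
      -- `t` is a non-zero-divisor modulo `(x², y)`
      have hc : c ∈ mi k {(2, 0, 0), (0, 1, 0)} := by
        rw [mem_mi]
        intro e he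
        rw [← coeff_mon_mul k 0 0 (2 * (N + 1)) c e]
        have hmem : mon k 0 0 (2 * (N + 1)) * c ∈ mi k {(2, 0, 0), (0, 1, 0)} := by
          rw [show mon k 0 0 (2 * (N + 1)) * c = y * (g - h') - p * f by
            linear_combination hab]
          refine sub_mem (Ideal.mul_mem_right _ _ (mon_mem k (0, 1, 0) (by simp)
            ⟨le_rfl, le_rfl, le_rfl⟩)) (Ideal.mul_mem_left _ _ ?_)
          exact eqn_mem k n (mon_mem k (2, 0, 0) (by simp) ⟨le_rfl, le_rfl, le_rfl⟩)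
            (mon_mem k (0, 1, 0) (by simp) ⟨le_rfl, hn, le_rfl⟩) (Ideal.mem_span_singleton_self _)
        refine (mem_mi k).1 hmem _ ?_
        simp only [Finset.mem_insert, Finset.mem_singleton, forall_eq_or_imp, forall_eq] at he ⊢
        simp [E3] at *
        omega
      rw [mi_eq_span] at hc
      simp only [Finset.coe_insert, Finset.coe_singleton, Set.image_insert_eq,
        Set.image_singleton] at hc
      obtain ⟨c₁, c₂, rfl⟩ := Ideal.mem_span_pair.1 hc
      set τ := mon k 0 0 (2 * (N + 1)) with hτ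
      set c' := c₁ * mon k 0 (n - 1) 0 + c₂
      have hfy : mon k 2 0 0 = f + mon k 0 (n - 1) 0 * y := by
        rw [hf, eqn, mon_mul, sub_add_eq_add_sub, eq_comm, sub_eq_iff_eq_add]
        congr 2; omega
      have key : y * (g - h' - c' * τ) = f * (p + c₁ * τ) := by
        simp only [c', hfy] at hab ⊢
        linear_combination -hab
      -- `y` is a non-zero-divisor modulo `f`
      obtain ⟨q, hq⟩ : y ∣ p + c₁ * τ := by
        have hy1 : y ∈ mi k {(0, 1, 0)} := mon_mem k (0, 1, 0) (by simp) ⟨le_rfl, le_rfl, le_rfl⟩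
        have hx : mon k 2 0 0 * (p + c₁ * τ) ∈ mi k {(0, 1, 0)} := by
          rw [hfy, add_mul, ← key]
          exact add_mem (Ideal.mul_mem_right _ _ hy1)
            (Ideal.mul_mem_right _ _ (Ideal.mul_mem_left _ _ hy1))
        have hh' : p + c₁ * τ ∈ mi k {(0, 1, 0)} := by
          rw [mem_mi]
          intro e he
          rw [← coeff_mon_mul k 2 0 0 (p + c₁ * τ) e]
          refine (mem_mi k).1 hx _ ?_
          simp [E3] at *
          omega
        rw [mi_eq_span, Finset.coe_singleton, Set.image_singleton] at hh'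
        exact Ideal.mem_span_singleton.1 hh'
      have hy0 : y ≠ 0 := fun h => by
        have := congrArg (coeff (E3 0 1 0)) h
        rw [show y = mon k 0 1 0 from rfl, mon, coeff_monomial_same, map_zero] at this
        exact one_ne_zero this
      have hg' : g = f * q + (h' + c' * τ) := by
        have : g - h' - c' * τ = f * q := mul_left_cancel₀ hy0 (by rw [key, hq]; ring)
        linear_combination this
      rw [hg']
      refine add_mem (Submodule.mem_sup_left (Ideal.mul_mem_right _ _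
        (Ideal.mem_span_singleton_self _))) (Submodule.mem_sup_right (add_mem hh
        (Ideal.mul_mem_left _ _ ?_)))
      have h2 : mon k 0 0 2 ∈ AI k := mon_mem k (0, 0, 2) (by simp) ⟨le_rfl, le_rfl, le_rfl⟩
      have := Ideal.pow_le_pow_right (Nat.le_succ N) (Ideal.pow_mem_pow h2 (N + 1))
      have hp : mon k 0 0 2 ^ (N + 1) = τ := by simp [hτ, mon_eq, ← pow_mul]
      rwa [hp] at this

lemma len_AI_pow (hn : 1 ≤ n) (N : ℕ) :
    len k (FI k n ⊔ AI k ^ N) = (2 * N * (N + 1) : ℕ) := by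
  induction N with
  | zero =>
    rw [pow_zero, Ideal.one_eq_top, sup_top_eq, len]
    simpa using length_quotient_top
  | succ N ih =>
    rw [len_AI_pow_succ k hn, ih, ← Nat.cast_add]
    congr 1
    ring

/-- The ideal. -/
noncomputable def II : Ideal (MvPowerSeries (Fin 3) k) :=
  mi k {(2, 0, 0), (1, 1, 0), (0, 2, 0), (1, 0, 1), (0, 1, 2), (0, 0, 4)}

lemma AI_sq_le : AI k * AI k ≤ II k :=
  mi_mul_mi_le k fun s hs t ht => by
    simp only [Finset.mem_insert, Finset.mem_singleton] at hs ht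
    rcases hs with rfl | rfl <;> rcases ht with rfl | rfl
    · exact mon_mem k (0, 2, 0) (by simp) ⟨le_rfl, le_rfl, le_rfl⟩
    · exact mon_mem k (0, 1, 2) (by simp) ⟨le_rfl, le_rfl, le_rfl⟩
    · exact mon_mem k (0, 1, 2) (by simp) ⟨le_rfl, le_rfl, le_rfl⟩
    · exact mon_mem k (0, 0, 4) (by simp) ⟨le_rfl, le_rfl, le_rfl⟩

lemma AI_pow_le (m : ℕ) : AI k ^ (2 * m) ≤ II k ^ m := by
  rw [pow_mul, pow_two]
  exact Ideal.pow_right_mono (AI_sq_le k) m

/-- `(xy, xt)`. -/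
noncomputable def KI : Ideal (MvPowerSeries (Fin 3) k) := mi k {(1, 1, 0), (1, 0, 1)}

lemma mon_mem_AI_four {b c : ℕ} (h : 4 ≤ b ∨ (3 ≤ b ∧ 2 ≤ c)) : mon k 0 b c ∈ AI k ^ 4 := by
  have hy : mon k 0 1 0 ∈ AI k := mon_mem k (0, 1, 0) (by simp) ⟨le_rfl, le_rfl, le_rfl⟩
  have ht : mon k 0 0 2 ∈ AI k := mon_mem k (0, 0, 2) (by simp) ⟨le_rfl, le_rfl, le_rfl⟩
  rcases h with h | ⟨h, h'⟩
  · have e : mon k 0 b c = mon k 0 (b - 4) c * mon k 0 1 0 ^ 4 := by
      rw [show mon k 0 1 0 ^ 4 = mon k 0 4 0 by simp [mon_eq], mon_mul]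
      congr 1; omega
    rw [e]
    exact Ideal.mul_mem_left _ _ (Ideal.pow_mem_pow hy 4)
  · have e : mon k 0 b c = mon k 0 (b - 3) (c - 2) * (mon k 0 1 0 ^ 3 * mon k 0 0 2) := by
      rw [show mon k 0 1 0 ^ 3 * mon k 0 0 2 = mon k 0 3 2 by simp [mon_eq], mon_mul]
      congr 1 <;> omega
    rw [e]
    refine Ideal.mul_mem_left _ _ ?_
    rw [pow_succ (AI k) 3]
    exact Ideal.mul_mem_mul (Ideal.pow_mem_pow hy 3) ht

lemma II_pow_le (hn : 3 ≤ n) (j : ℕ) :
    II k ^ (j + 1) ≤ AI k ^ (2 * j + 2) ⊔ KI k * AI k ^ (2 * j) ⊔ FI k n := by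
  have hI : II k ≤ AI k ^ 2 ⊔ KI k ⊔ FI k n := by
    have hy : mon k 0 1 0 ∈ AI k := mon_mem k (0, 1, 0) (by simp) ⟨le_rfl, le_rfl, le_rfl⟩
    have ht : mon k 0 0 2 ∈ AI k := mon_mem k (0, 0, 2) (by simp) ⟨le_rfl, le_rfl, le_rfl⟩
    refine mi_le k fun s hs => ?_
    simp only [Finset.mem_insert, Finset.mem_singleton] at hs
    rcases hs with rfl | rfl | rfl | rfl | rfl | rfl
    · rw [show mon k 2 0 0 = eqn k n + mon k 0 (n - 2) 0 * (mon k 0 1 0 * mon k 0 1 0) by
        rw [eqn, mon_mul, mon_mul, sub_add_eq_add_sub, eq_comm, sub_eq_iff_eq_add]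
        congr 2; omega]
      refine add_mem (Submodule.mem_sup_right (Ideal.mem_span_singleton_self _))
        (Submodule.mem_sup_left (Submodule.mem_sup_left (Ideal.mul_mem_left _ _ ?_)))
      rw [pow_two]; exact Ideal.mul_mem_mul hy hy
    · exact Submodule.mem_sup_left (Submodule.mem_sup_right
        (mon_mem k (1, 1, 0) (by simp) ⟨le_rfl, le_rfl, le_rfl⟩))
    · refine Submodule.mem_sup_left (Submodule.mem_sup_left ?_)
      rw [pow_two, ← show mon k 0 1 0 * mon k 0 1 0 = mon k 0 2 0 by rw [mon_mul]]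
      exact Ideal.mul_mem_mul hy hy
    · exact Submodule.mem_sup_left (Submodule.mem_sup_right
        (mon_mem k (1, 0, 1) (by simp) ⟨le_rfl, le_rfl, le_rfl⟩))
    · refine Submodule.mem_sup_left (Submodule.mem_sup_left ?_)
      rw [pow_two, ← show mon k 0 1 0 * mon k 0 0 2 = mon k 0 1 2 by rw [mon_mul]]
      exact Ideal.mul_mem_mul hy ht
    · refine Submodule.mem_sup_left (Submodule.mem_sup_left ?_)
      rw [pow_two, ← show mon k 0 0 2 * mon k 0 0 2 = mon k 0 0 4 by rw [mon_mul]]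
      exact Ideal.mul_mem_mul ht ht
  have hKK : KI k * KI k ≤ AI k ^ 4 ⊔ FI k n := by
    have key : ∀ b c, b + c = 2 →
        mon k 2 b c = eqn k n * mon k 0 b c + mon k 0 (n + b) c := fun b c _ => by
      rw [eqn, sub_mul, mon_mul, mon_mul]; simp
    refine mi_mul_mi_le k fun s hs t ht => ?_
    simp only [Finset.mem_insert, Finset.mem_singleton] at hs ht
    rcases hs with rfl | rfl <;> rcases ht with rfl | rfl
    all_goals
      dsimp only
      rw [key _ _ (by omega)]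
      exact add_mem (Submodule.mem_sup_right (Ideal.mul_mem_right _ _
        (Ideal.mem_span_singleton_self _))) (Submodule.mem_sup_left
          (mon_mem_AI_four k (by omega)))
  induction j with
  | zero => simpa using hI
  | succ j ih =>
    rw [pow_succ]
    refine (Ideal.mul_mono ih hI).trans ?_
    set T := AI k ^ (2 * (j + 1) + 2) ⊔ KI k * AI k ^ (2 * (j + 1)) ⊔ FI k n with hT
    have hF : FI k n ≤ T := le_sup_right
    have hP : AI k ^ (2 * (j + 1) + 2) ≤ T := le_sup_left.trans le_sup_left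
    have hQ : KI k * AI k ^ (2 * (j + 1)) ≤ T := le_sup_right.trans le_sup_left
    rw [Ideal.sup_mul, Ideal.sup_mul, Ideal.mul_sup, Ideal.mul_sup, Ideal.mul_sup, Ideal.mul_sup]
    refine sup_le (sup_le (sup_le (sup_le ?_ ?_) (Ideal.mul_le_right.trans hF))
      (sup_le (sup_le ?_ ?_) (Ideal.mul_le_right.trans hF))) (Ideal.mul_le_left.trans hF)
    · refine le_trans (le_of_eq ?_) hP
      rw [← pow_add]; congr 1
    · refine le_trans (le_of_eq ?_) hQ
      rw [mul_comm]; congr 2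
    · refine le_trans (le_of_eq ?_) hQ
      rw [mul_assoc, ← pow_add]; congr 2
    · rw [mul_right_comm]
      refine (Ideal.mul_mono_left hKK).trans ?_
      rw [Ideal.sup_mul]
      refine sup_le (le_trans (le_of_eq ?_) hP) (Ideal.mul_le_left.trans hF)
      rw [← pow_add]; congr 1; ring

end Groth.Agent.DoublePt
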