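import Mathlib.RingTheory.MvPowerSeries.Inverse
import Mathlib.RingTheory.Length
import Mathlib.Tactic

/-! Monomial ideals in power series rings, and lengths by colon ideals. -/

universe u

namespace Groth.Agent.DoublePt

open MvPowerSeries

variable {σ : Type*} {k : Type u} [CommRing k]

/-- The monomial ideal spanned by a finite set of exponents. -/
noncomputable def monIdeal (S : Finset (σ →₀ ℕ)) : Ideal (MvPowerSeries σ k) :=
  Ideal.span ((fun d => monomial d (1 : k)) '' S)

theorem mem_monIdeal {S : Finset (σ →₀ ℕ)} {g : MvPowerSeries σ k} :
    g ∈ monIdeal S ↔ ∀ e : σ →₀ ℕ, (∀ d ∈ S, ¬ d ≤ e) → coeff e g = 0 := by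
  classical
  constructor
  · intro hg
    induction hg using Submodule.span_induction with
    | mem x hx =>
      obtain ⟨d, hd, rfl⟩ := hx
      intro e he
      rw [coeff_monomial, if_neg]
      exact fun h => he d hd h.ge
    | zero => simp
    | add x y _ _ hx hy => intro e he; rw [map_add, hx e he, hy e he, add_zero]
    | smul a x hmem hx =>
      intro e he
      rw [smul_eq_mul, coeff_mul]
      refine Finset.sum_eq_zero fun p hp => ?_
      rw [hx p.2 fun d hd hle => he d hd (hle.trans ?_), mul_zero]
      rw [Finset.HasAntidiagonal.mem_antidiagonal] at hp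
      exact hp ▸ le_add_self
  · induction S using Finset.induction generalizing g with
    | empty =>
      intro h
      have : g = 0 := MvPowerSeries.ext fun e => by rw [h e (by simp), map_zero]
      rw [this]; exact zero_mem _
    | insert d S hd ih =>
      intro h
      let q : MvPowerSeries σ k := fun e => coeff (d + e) g
      have hq : ∀ e, coeff e q = coeff (d + e) g := fun _ => rfl
      have hsub : g - monomial d 1 * q ∈ monIdeal S := by
        refine ih fun e he => ?_
        rw [map_sub, coeff_monomial_mul]
        split_ifs with hle
        · rw [one_mul, hq, add_tsub_cancel_of_le hle, sub_self]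
        · rw [sub_zero]
          refine h e fun d' hd' => ?_
          rcases Finset.mem_insert.1 hd' with rfl | h'
          · exact hle
          · exact he d' h'
      have hle : monIdeal (k := k) S ≤ monIdeal (insert d S) :=
        Ideal.span_mono (Set.image_mono (by simp))
      have := add_mem (hle hsub) (Ideal.mul_mem_right q _
        (Ideal.subset_span ⟨d, Finset.mem_insert_self d S, rfl⟩ :
          monomial d (1 : k) ∈ monIdeal (insert d S)))
      simpa using this

/-- `length (R/J) = length (R/(J : z)) + length (R/(J + z))`. -/
theorem length_colon {R : Type u} [CommRing R] (J I : Ideal R) (z : R)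
    (h : ∀ g, g ∈ I ↔ z * g ∈ J) :
    Module.length R (R ⧸ J) = Module.length R (R ⧸ I) + Module.length R (R ⧸ (J ⊔ Ideal.span {z})) := by
  let f : (R ⧸ I) →ₗ[R] R ⧸ J :=
    Submodule.mapQ I J (LinearMap.lsmul R R z) fun g hg => (h g).1 hg
  let p : (R ⧸ J) →ₗ[R] R ⧸ (J ⊔ Ideal.span {z}) := Submodule.factor le_sup_left
  refine Module.length_eq_add_of_exact f p ?_ (Submodule.factor_surjective _) ?_
  · rw [injective_iff_map_eq_zero]
    intro x hx
    induction x using Submodule.Quotient.induction_on with
    | _ g => exact (Submodule.Quotient.mk_eq_zero _).2 ((h g).2 ((Submodule.Quotient.mk_eq_zero J).1 hx :))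
  · intro y
    induction y using Submodule.Quotient.induction_on with
    | _ g =>
      constructor
      · intro hg
        have hg' : g ∈ J ⊔ Ideal.span {z} := (Submodule.Quotient.mk_eq_zero _).1 hg
        obtain ⟨a, ha, b, hb, rfl⟩ := Submodule.mem_sup.1 hg'
        obtain ⟨c, rfl⟩ := Ideal.mem_span_singleton'.1 hb
        refine ⟨Submodule.Quotient.mk c, ?_⟩
        show Submodule.Quotient.mk (z * c) = _
        rw [Submodule.Quotient.eq]
        convert J.neg_mem ha using 1
        ring
      · rintro ⟨x, hx⟩
        induction x using Submodule.Quotient.induction_on with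
        | _ c =>
          rw [← hx]
          show Submodule.Quotient.mk (z * c) = 0
          rw [Submodule.Quotient.mk_eq_zero]
          exact Submodule.mem_sup_right (Ideal.mem_span_singleton'.2 ⟨c, mul_comm c z⟩)

theorem length_quotient_top {R : Type u} [CommRing R] :
    Module.length R (R ⧸ (⊤ : Ideal R)) = 0 :=
  Module.length_eq_zero

theorem length_quotient_antitone {R : Type u} [CommRing R] {I J : Ideal R} (h : I ≤ J) :
    Module.length R (R ⧸ J) ≤ Module.length R (R ⧸ I) :=
  Module.length_le_of_surjective (Submodule.factor h) (Submodule.factor_surjective h)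

end Groth.Agent.DoublePt
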